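import Groth.Agent.H18Torsor.Basic
import Groth.Agent.H18Torsor.NormalSection
import Groth.Agent.H19Grp.PointsEq
import Mathlib.AlgebraicGeometry.Morphisms.LocalFlatDescent
import Mathlib.RingTheory.Unramified.LocalStructure
import Groth.Prelude.Def_Red
import Groth.Prelude.Def_NonAbH2

/-! Generic points of torsors under étale groups over a field extend over normal integral bases. -/

set_option autoImplicit false
set_option backward.isDefEq.respectTransparency false
set_option linter.style.haveILetI false
universe u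

open CategoryTheory MonoidalCategory CartesianMonoidalCategory AlgebraicGeometry Limits TopologicalSpace

namespace Groth.Agent.H18GenTors

/-- An fppf covering family is refined over each affine open by one finitely presented faithfully flat
morphism from an affine scheme. -/
theorem exists_refinement_fppf {S : Scheme.{u}} {R : Presieve S} (hR : R ∈ Scheme.fppfPrecoverage S)
    {U : S.Opens} (hU : IsAffineOpen U) :
    ∃ (T : Scheme.{u}) (h : T ⟶ U.toScheme), IsAffine T ∧ Groth.Agent.H18Descent.fpqc h ∧
      LocallyOfFinitePresentation h ∧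
      ∀ (Y : Scheme.{u}) (π : Y ⟶ S), (∀ ⦃S' : Scheme.{u}⦄ (f : S' ⟶ S), R f → ∃ s : S' ⟶ Y, s ≫ π = f) →
        ∃ s : T ⟶ Y, s ≫ π = h ≫ U.ι := by
  obtain ⟨𝒰, hq, hR'⟩ := Scheme.mem_propQCPrecoverage_iff_exists_quasiCompactCover.mp
    (Scheme.fppfPrecoverage_le_fpqcPrecoverage _ hR)
  subst hR'
  haveI := hq
  haveI : ∀ i, Flat (𝒰.f i) := fun i => 𝒰.map_prop i
  haveI : ∀ i, LocallyOfFinitePresentation (𝒰.f i) := fun i => ((Scheme.ofArrows_mem_precoverage_iff _).1 hR).2 i |>.2
  obtain ⟨n, f, V, hV, hUV⟩ := QuasiCompactCover.exists_isAffineOpen_of_isCompact 𝒰.toPreZeroHypercover hU.isCompact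
  let Vs : ULift.{u} (Fin n) → Scheme.{u} := fun i => (V i.down).toScheme
  haveI : ∀ i, IsAffine (Vs i) := fun i => hV i.down
  let k : ∀ i, Vs i ⟶ U.toScheme := fun i =>
    IsOpenImmersion.lift U.ι ((V i.down).ι ≫ 𝒰.f (f i.down)) (by
      rintro _ ⟨x, rfl⟩
      rw [Scheme.Opens.range_ι]
      exact hUV.subset (Set.mem_iUnion.mpr ⟨i.down, x.1, x.2, rfl⟩))
  have hk : ∀ i, k i ≫ U.ι = (V i.down).ι ≫ 𝒰.f (f i.down) := fun i => IsOpenImmersion.lift_fac _ _ _
  haveI : ∀ i, Flat (k i) := fun i => by
    haveI : Flat (k i ≫ U.ι) := by rw [hk]; infer_instance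
    exact MorphismProperty.of_postcomp (W := @Flat) (W' := @IsOpenImmersion) (k i) U.ι inferInstance inferInstance
  haveI : ∀ i, LocallyOfFinitePresentation (k i) := fun i => by
    haveI : LocallyOfFinitePresentation (k i ≫ U.ι) := by rw [hk]; infer_instance
    exact MorphismProperty.of_postcomp (W := @LocallyOfFinitePresentation) (W' := @IsOpenImmersion) (k i) U.ι
      inferInstance inferInstance
  haveI : IsAffine U.toScheme := hU
  refine ⟨∐ Vs, Sigma.desc k, inferInstance, ⟨⟨⟨fun u => ?surj⟩, IsZariskiLocalAtSource.sigmaDesc inferInstance⟩, inferInstance⟩,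
    IsZariskiLocalAtSource.sigmaDesc inferInstance, fun Y π hs => ?sect⟩
  case surj =>
    obtain ⟨i, x, hx, hxu⟩ := Set.mem_iUnion.mp (hUV.symm.subset u.2)
    refine ⟨Sigma.ι Vs ⟨i⟩ ⟨x, hx⟩, U.ι.isOpenEmbedding.injective ?_⟩
    rw [← Scheme.Hom.comp_apply, ← Scheme.Hom.comp_apply, Sigma.ι_desc_assoc, hk]
    exact hxu
  case sect =>
    choose s hs' using fun i : ULift.{u} (Fin n) => hs (𝒰.f (f i.down)) (Presieve.ofArrows.mk _)
    refine ⟨Sigma.desc fun i => (V i.down).ι ≫ s i, Sigma.hom_ext _ _ fun i => ?_⟩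
    simp [hs', hk]

/-- A base change along a monomorphism. -/
theorem isPullback_comp_mono {C : Type*} [Category C] {P A B U S : C} {a : P ⟶ A} {b : P ⟶ B} {f : A ⟶ U}
    {g : B ⟶ U} (h : IsPullback a b f g) (j : U ⟶ S) [Mono j] : IsPullback a b (f ≫ j) (g ≫ j) := by
  refine ⟨⟨by rw [reassoc_of% h.w]⟩, ⟨PullbackCone.IsLimit.mk _
    (fun s => h.lift s.fst s.snd ((cancel_mono j).1 (by simpa using s.condition)))
    (fun s => h.lift_fst _ _ _) (fun s => h.lift_snd _ _ _)
    (fun s m h₁ h₂ => h.hom_ext (by simpa using h₁) (by simpa using h₂))⟩⟩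

theorem lqf_of_etale {X Y : Scheme.{u}} (g : X ⟶ Y) [Etale g] : LocallyQuasiFinite g := by
  rw [HasRingHomProperty.iff_appLE (P := @LocallyQuasiFinite)]
  intro W O e
  have h₁ := HasRingHomProperty.appLE @FormallyUnramified g inferInstance W O e
  have h₂ := HasRingHomProperty.appLE @LocallyOfFiniteType g inferInstance W O e
  algebraize [(g.appLE W.1 O.1 e).hom]
  exact (inferInstance : Algebra.QuasiFinite Γ(Y, W.1) Γ(X, O.1))

/-- An étale morphism to a field has discrete source. -/
theorem discreteTopology_of_etale {k : Type u} [Field k] {G : Scheme.{u}} (g : G ⟶ Spec (CommRingCat.of k))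
    [Etale g] : DiscreteTopology G := by
  haveI : IsLocallyArtinian (Spec (CommRingCat.of k)) := Scheme.isLocallyArtinianScheme_Spec.2 inferInstance
  haveI := lqf_of_etale g
  haveI := IsLocallyArtinian.of_locallyQuasiFinite g
  exact IsLocallyArtinian.discreteTopology

variable {k : Type u} [Field k] (G : Over (Spec (CommRingCat.of k))) [GrpObj G] [Etale G.hom]
  {S : Scheme.{u}} [IsIntegral S] (s : S ⟶ Spec (CommRingCat.of k))
  {X : Over S} (a : AlgGrp.Action (Red.bc s G) X)

/-- The closure of a generic point of a torsor under an étale group is finite over the base. -/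
theorem isFinite_image (h : NonAbH1.IsTorsorFor Scheme.fppfPrecoverage a)
    (x : Spec (S.presheaf.stalk (genericPoint S)) ⟶ X.left) (hx : x ≫ X.hom = S.fromSpecStalk (genericPoint S))
    [QuasiCompact x] : IsFinite (x.imageι ≫ X.hom) := by
  haveI : IsSeparated G.hom := Groth.Agent.H19Grp.PointsDense.isSeparated_grp G
  haveI := discreteTopology_of_etale G.hom
  obtain ⟨hps, R, hR, hsec⟩ := h
  refine (IsZariskiLocalAtTarget.iff_of_iSup_eq_top (P := @IsFinite) (fun U : S.affineOpens => U.1)
    (iSup_affineOpens_eq_top S)).mpr fun U => ?_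
  obtain ⟨T, l, -, hl, hlfp, hT⟩ := exists_refinement_fppf hR U.2
  let f := l ≫ U.1.ι
  let fZ := x.imageι ≫ X.hom
  suffices IsFinite (pullback.snd fZ f) by
    have hsq : IsPullback (pullback.fst l (fZ ∣_ U.1)) (pullback.snd l (fZ ∣_ U.1) ≫ (fZ ⁻¹ᵁ U.1).ι) f fZ :=
      (IsPullback.of_hasPullback l (fZ ∣_ U.1)).paste_vert (isPullback_morphismRestrict fZ U.1)
    refine MorphismProperty.of_pullback_fst_of_descendsAlong (P := @IsFinite) (Q := Groth.Agent.H18Descent.fpqc) hl ?_
    rw [← hsq.flip.isoPullback_hom_snd, MorphismProperty.cancel_left_of_respectsIso @IsFinite]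
    exact this
  haveI : Flat l := hl.1.2
  haveI : QuasiCompact l := hl.2
  haveI : Flat f := inferInstance
  haveI : LocallyOfFinitePresentation f := inferInstance
  -- the torsor over `T` is `G` times `T`
  obtain ⟨t, ht⟩ := hT X.left X.hom hsec
  let e := (Over.forget S).mapIso (H18Torsor.trivIso a hps (Over.homMk t ht : Over.mk f ⟶ X))
  have he : e.inv ≫ pullback.snd (Red.bc s G).hom f = pullback.snd X.hom f :=
    congrArg CommaMorphism.left (H18Torsor.trivIso_inv_snd a hps (Over.homMk t ht : Over.mk f ⟶ X))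
  let p : pullback X.hom f ⟶ G.left := e.inv ≫ pullback.fst (Red.bc s G).hom f ≫ pullback.fst G.hom s
  -- the points over `x` have a finite image in `G`
  let η := S.fromSpecStalk (genericPoint S)
  let pre : Set ↥(pullback X.hom f) := pullback.fst X.hom f ⁻¹' Set.range x
  have hpre : IsCompact (p '' pre) := by
    refine IsCompact.image ?_ p.continuous
    by_cases hne : genericPoint S ∈ U.1
    · let g : Spec (S.presheaf.stalk (genericPoint S)) ⟶ U.1 := IsOpenImmersion.lift U.1.ι η (by
        rintro _ ⟨z, rfl⟩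
        rw [Scheme.Opens.range_ι]
        have hz : η z ∈ Set.range η := ⟨z, rfl⟩
        rw [Scheme.range_fromSpecStalk] at hz
        exact hz.mem_open U.1.2 hne)
      have hg : g ≫ U.1.ι = η := IsOpenImmersion.lift_fac _ _ _
      have hW : IsPullback (pullback.fst l g) (pullback.snd l g) f η :=
        hg ▸ isPullback_comp_mono (IsPullback.of_hasPullback l g) U.1.ι
      let w : pullback l g ⟶ pullback X.hom f := pullback.lift (pullback.snd l g ≫ x) (pullback.fst l g)
        (by rw [Category.assoc, hx]; exact hW.w.symm)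
      have hw : IsPullback (pullback.snd l g) w x (pullback.fst X.hom f) := by
        refine IsPullback.flip (IsPullback.of_right ?_ (pullback.lift_fst _ _ _) (IsPullback.of_hasPullback X.hom f).flip)
        rw [pullback.lift_snd, hx]
        exact hW
      have hwr : Set.range w = pre := by
        rw [← hw.isoPullback_hom_snd, Scheme.Hom.comp_base, TopCat.coe_comp,
          Set.range_comp, Set.range_eq_univ.2 hw.isoPullback.hom.surjective, Set.image_univ,
          Scheme.Pullback.range_snd]
      haveI : CompactSpace ↥(pullback l g) := QuasiCompact.compactSpace_of_compactSpace (pullback.snd l g)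
      rw [← hwr]
      exact isCompact_range w.continuous
    · suffices pre = ∅ by rw [this]; exact isCompact_empty
      refine Set.eq_empty_of_forall_notMem fun z hz => ?_
      obtain ⟨y, hy⟩ := hz
      have h1 : η y ∈ U.1 := by
        simp only [η]
        rw [← hx, Scheme.Hom.comp_apply, hy, ← Scheme.Hom.comp_apply, pullback.condition, Scheme.Hom.comp_apply]
        exact (l _).2
      exact hne ((genericPoint_specializes (η y)).mem_open U.1.2 h1)
  have hF : (p '' pre).Finite := hpre.finite_of_discrete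
  let V : G.left.Opens := ⟨p '' pre, isOpen_discrete _⟩
  haveI : CompactSpace (V : Scheme.{u}) := isCompact_iff_compactSpace.mp hpre
  haveI : QuasiCompact (V.ι ≫ G.hom) := quasiCompact_of_compactSpace (V.ι ≫ G.hom)
  haveI : IsLocallyArtinian (Spec (CommRingCat.of k)) := Scheme.isLocallyArtinianScheme_Spec.2 inferInstance
  haveI := lqf_of_etale G.hom
  haveI : IsFinite (V.ι ≫ G.hom) := IsFinite.of_locallyQuasiFinite _
  -- the image lies over `V`
  let c : pullback fZ f ⟶ pullback X.hom f :=
    pullback.lift (pullback.fst fZ f ≫ x.imageι) (pullback.snd fZ f) (by rw [Category.assoc]; exact pullback.condition)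
  have hc : IsPullback c (pullback.fst fZ f) (pullback.fst X.hom f) x.imageι :=
    IsPullback.of_right (by rw [pullback.lift_snd]; exact (IsPullback.of_hasPullback fZ f).flip)
      (pullback.lift_fst _ _ _) (IsPullback.of_hasPullback X.hom f).flip
  haveI : IsClosedImmersion c := MorphismProperty.of_isPullback hc.flip inferInstance
  have hcr : ∀ z, p (c z) ∈ p '' pre := fun z => by
    have h1 : pullback.fst X.hom f (c z) ∈ closure (Set.range x) := by
      rw [← Scheme.Hom.comp_apply, pullback.lift_fst, Scheme.Hom.comp_apply, ← Scheme.Hom.support_ker,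
        ← Scheme.IdealSheafData.range_subschemeι]
      exact ⟨_, rfl⟩
    have ho : IsOpenMap (pullback.fst X.hom f) := (pullback.fst X.hom f).isOpenMap
    have h2 : c z ∈ closure pre := by
      rw [show pre = pullback.fst X.hom f ⁻¹' Set.range x from rfl,
        ← ho.preimage_closure_eq_closure_preimage (pullback.fst X.hom f).continuous]
      exact h1
    exact closure_minimal (Set.subset_preimage_image p pre) ((isClosed_discrete _).preimage p.continuous) h2
  have hr : Set.range (c ≫ p) ⊆ Set.range V.ι := by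
    rintro _ ⟨z, rfl⟩
    rw [Scheme.Opens.range_ι]
    exact hcr z
  let h' : pullback fZ f ⟶ pullback (V.ι ≫ G.hom) (f ≫ s) :=
    pullback.lift (IsOpenImmersion.lift V.ι (c ≫ p) hr) (pullback.snd fZ f) (by
      rw [IsOpenImmersion.lift_fac_assoc]
      have e1 : p ≫ G.hom = pullback.snd X.hom f ≫ f ≫ s := by
        rw [← he]
        simp only [p, Category.assoc]
        congr 1
        rw [pullback.condition, ← pullback.condition_assoc]
        rfl
      rw [Category.assoc, e1, pullback.lift_snd_assoc])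
  let ψ : pullback X.hom f ⟶ pullback G.hom (f ≫ s) :=
    e.inv ≫ (pullbackLeftPullbackSndIso G.hom s f).hom
  have hψ₁ : ψ ≫ pullback.fst _ _ = p := by simp [ψ, p]
  have hψ₂ : ψ ≫ pullback.snd _ _ = pullback.snd X.hom f := by
    rw [← he]
    simp [ψ]
  let m : pullback (V.ι ≫ G.hom) (f ≫ s) ⟶ pullback G.hom (f ≫ s) :=
    pullback.map _ _ _ _ V.ι (𝟙 _) (𝟙 _) (by simp) (by simp)
  have hm : h' ≫ m = c ≫ ψ := by
    apply pullback.hom_ext
    · simp [m, h', hψ₁]
    · simp [m, h', hψ₂, c]
  haveI : IsClosedImmersion (h' ≫ m) := by rw [hm]; infer_instance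
  haveI : IsClosedImmersion h' := IsClosedImmersion.of_comp h' m
  haveI : IsFinite (pullback.snd (V.ι ≫ G.hom) (f ≫ s)) := inferInstance
  have e2 : h' ≫ pullback.snd _ _ = pullback.snd fZ f := pullback.lift_snd _ _ _
  rw [← e2]
  infer_instance

/-- A generic point of the torsor extends to a section. -/
theorem exists_section (hS : Pi1.IsNormalScheme S) (h : NonAbH1.IsTorsorFor Scheme.fppfPrecoverage a)
    (x : Spec (S.presheaf.stalk (genericPoint S)) ⟶ X.left) (hx : x ≫ X.hom = S.fromSpecStalk (genericPoint S)) :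
    ∃ σ : S ⟶ X.left, σ ≫ X.hom = 𝟙 S ∧ S.fromSpecStalk (genericPoint S) ≫ σ = x := by
  haveI : Subsingleton ↥(Spec (S.presheaf.stalk (genericPoint S))) :=
    inferInstanceAs (Subsingleton (PrimeSpectrum S.functionField))
  haveI : QuasiCompact x := ⟨fun U _ _ => (Set.Subsingleton.finite fun _ _ _ _ => Subsingleton.elim _ _).isCompact⟩
  haveI := isFinite_image G s a h x hx
  obtain ⟨σ, hσ, hσ'⟩ := H18Torsor.exists_section_extending hS (x.imageι ≫ X.hom) x.toImage
    (by rw [Scheme.Hom.toImage_imageι_assoc, hx])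
  exact ⟨σ ≫ x.imageι, by rw [Category.assoc, hσ], by rw [reassoc_of% hσ', Scheme.Hom.toImage_imageι]⟩

/-- Sections agreeing at the generic point agree. -/
theorem section_ext (h : NonAbH1.IsTorsorFor Scheme.fppfPrecoverage a) (σ₁ σ₂ : S ⟶ X.left)
    (h₁ : σ₁ ≫ X.hom = 𝟙 S) (h₂ : σ₂ ≫ X.hom = 𝟙 S)
    (he : S.fromSpecStalk (genericPoint S) ≫ σ₁ = S.fromSpecStalk (genericPoint S) ≫ σ₂) : σ₁ = σ₂ := by
  haveI : IsSeparated G.hom := Groth.Agent.H19Grp.PointsDense.isSeparated_grp G
  have h' : NonAbH1.IsTorsorFor Scheme.fpqcPrecoverage a :=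
    ⟨h.1, h.2.choose, Scheme.fppfPrecoverage_le_fpqcPrecoverage _ h.2.choose_spec.1, h.2.choose_spec.2⟩
  haveI : IsSeparated (Red.bc s G).hom := inferInstanceAs (IsSeparated (pullback.snd G.hom s))
  haveI : IsSeparated X.hom := H18Torsor.property_of_isTorsorFor a @IsSeparated h' inferInstance
  haveI : IsDominant (S.fromSpecStalk (genericPoint S)) := ⟨by
    rw [DenseRange, dense_iff_closure_eq, Set.eq_univ_iff_forall]
    intro y
    refine closure_mono (show ({genericPoint S} : Set S) ⊆ _ from ?_) (genericPoint_spec S |>.def ▸ Set.mem_univ y)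
    rintro _ rfl
    exact ⟨_, Scheme.fromSpecStalk_closedPoint⟩⟩
  exact ext_of_isDominant_of_isSeparated X.hom (h₁.trans h₂.symm) _ he

end Groth.Agent.H18GenTors
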