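import Groth.Agent.H18GenTors.Finite

/-! Sections of torsors under étale groups and points over the function field. -/

set_option autoImplicit false
set_option backward.isDefEq.respectTransparency false
universe u

open CategoryTheory MonoidalCategory CartesianMonoidalCategory AlgebraicGeometry Limits TopologicalSpace

namespace Groth.Agent.H18GenTors

theorem isIso_residue (S : Scheme.{u}) [IsIntegral S] : IsIso (S.residue (genericPoint S)) := by
  letI : Field (S.presheaf.stalk (genericPoint S)) := inferInstanceAs (Field S.functionField)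
  have hb : Function.Bijective (S.residue (genericPoint S)).hom :=
    ⟨RingHom.injective _, S.residue_surjective _⟩
  exact (ConcreteCategory.isIso_iff_bijective _).2 hb

variable {k : Type u} [Field k] (G : Over (Spec (CommRingCat.of k))) [GrpObj G] [Etale G.hom]
  {S : Scheme.{u}} [IsIntegral S] (s : S ⟶ Spec (CommRingCat.of k))
  {X : Over S} (a : AlgGrp.Action (Red.bc s G) X)

theorem fromSpecResidueField_eq :
    S.fromSpecResidueField (genericPoint S) = Spec.map (S.residue (genericPoint S)) ≫ S.fromSpecStalk (genericPoint S) :=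
  rfl

theorem exists_section_residue (hS : Pi1.IsNormalScheme S) (h : NonAbH1.IsTorsorFor Scheme.fppfPrecoverage a)
    (x : Spec (S.residueField (genericPoint S)) ⟶ X.left) (hx : x ≫ X.hom = S.fromSpecResidueField (genericPoint S)) :
    ∃ σ : S ⟶ X.left, σ ≫ X.hom = 𝟙 S ∧ S.fromSpecResidueField (genericPoint S) ≫ σ = x := by
  haveI := isIso_residue S
  obtain ⟨σ, h1, h2⟩ := exists_section G s a hS h (inv (Spec.map (S.residue (genericPoint S))) ≫ x)
    (by rw [Category.assoc, hx, fromSpecResidueField_eq, IsIso.inv_hom_id_assoc])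
  exact ⟨σ, h1, by rw [fromSpecResidueField_eq, Category.assoc, h2, IsIso.hom_inv_id_assoc]⟩

theorem section_ext_residue (h : NonAbH1.IsTorsorFor Scheme.fppfPrecoverage a) (σ₁ σ₂ : S ⟶ X.left)
    (h₁ : σ₁ ≫ X.hom = 𝟙 S) (h₂ : σ₂ ≫ X.hom = 𝟙 S)
    (he : S.fromSpecResidueField (genericPoint S) ≫ σ₁ = S.fromSpecResidueField (genericPoint S) ≫ σ₂) : σ₁ = σ₂ := by
  haveI := isIso_residue S
  rw [fromSpecResidueField_eq, Category.assoc, Category.assoc, cancel_epi] at he
  exact section_ext G s a h σ₁ σ₂ h₁ h₂ he

end Groth.Agent.H18GenTors
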